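import Groth.Agent.Sga67.K0Basic
import Groth.Agent.Sga67.KvbRing
import Groth.Prelude.Def_KRR

/-!
# Assembly of the base change formula `φ^K F_K = f_K ψ^K` on K-ring models

Given resolutions of `F_* E` on `M` whose pull-backs resolve `f_* ψ^* E` on `Y`.
-/

set_option autoImplicit false
universe v w v₁ v₂ u
open CategoryTheory CategoryTheory.Limits AlgebraicGeometry

namespace Groth.Agent.Krr.H448.Asm49

/-- The formal part: if every finite locally free `E` on `P` has a resolution of `F_* E` whose pull-back resolves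
`f_* (ψ^* E)`, then `φ^K F_K = f_K ψ^K`. -/
theorem pull_push_of_res {X Y P M : Scheme.{u}} (F : P ⟶ M) (φ : Y ⟶ M) (f : X ⟶ Y) (ψ : X ⟶ P)
    {KX : Type v₁} [CommRing KX] {φX : SGA6.Kvb X →+ KX}
    {KY : Type v₂} [CommRing KY] {φY : SGA6.Kvb Y →+ KY}
    {KP : Type v} [CommRing KP] {φP : SGA6.Kvb P →+ KP} (hsP : Function.Surjective φP)
    {KM : Type w} [CommRing KM] {φM : SGA6.Kvb M →+ KM}
    (gφ : KM →+ KY) (hgφ : KRR.IsPull φ φM φY gφ) (gψ : KP →+ KX) (hgψ : KRR.IsPull ψ φP φX gψ)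
    (gF : KP →+ KM) (hgF : KRR.IsPushCl F φP φM gF) (gf : KX →+ KY) (hgf : KRR.IsPushCl f φX φY gf)
    (hψ : ∀ E : P.Modules, FlatMod.IsFinLocFree E → FlatMod.IsFinLocFree ((Scheme.Modules.pullback ψ).obj E))
    (H : ∀ E : P.Modules, FlatMod.IsFinLocFree E → ∃ (n : ℕ) (L : ChainComplex M.Modules ℕ)
      (π : L ⟶ (ChainComplex.single₀ M.Modules).obj ((Scheme.Modules.pushforward F).obj E))
      (L' : ChainComplex Y.Modules ℕ)
      (π' : L' ⟶ (ChainComplex.single₀ Y.Modules).obj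
        ((Scheme.Modules.pushforward f).obj ((Scheme.Modules.pullback ψ).obj E))),
      KRR.IsLFRes ((Scheme.Modules.pushforward F).obj E) n L π ∧
      KRR.IsLFRes ((Scheme.Modules.pushforward f).obj ((Scheme.Modules.pullback ψ).obj E)) n L' π' ∧
      ∀ i : ℕ, Nonempty (L'.X i ≅ (Scheme.Modules.pullback φ).obj (L.X i)))
    (p : KP) : gφ (gF p) = gf (gψ p) := by
  obtain ⟨x, rfl⟩ := hsP p
  have key : (gφ.comp gF).comp φP = (gf.comp gψ).comp φP := by
    refine Sga67.K0Basic.hom_ext_sub (fun E hE => ?_)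
    obtain ⟨n, L, π, L', π', h1, h2, h3⟩ := H E hE
    have hE' : FlatMod.IsFinLocFree E := hE
    have a1 := hgF E hE' n L π h1
    have a2 := hgf _ (hψ E hE') n L' π' h2
    have a3 := hgψ E hE'
    have a1' : gF (φP (KZero.clSub (KRR.vbP P) E)) =
        ∑ k ∈ Finset.range (n + 1), (-1 : ℤ) ^ k • φM (KRR.cl M (L.X k)) := a1
    have a3' : gψ (φP (KZero.clSub (KRR.vbP P) E)) =
        φX (KRR.cl X ((Scheme.Modules.pullback ψ).obj E)) := a3
    change gφ (gF (φP (KZero.clSub (KRR.vbP P) E))) = gf (gψ (φP (KZero.clSub (KRR.vbP P) E)))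
    rw [a1', a3', a2, map_sum]
    refine Finset.sum_congr rfl (fun k _ => ?_)
    rw [map_zsmul]
    congr 1
    rw [hgφ _ (h1.finLocFree k)]
    obtain ⟨e⟩ := h3 k
    congr 1
    exact (Sga67.KvbRing.c_iso e (h2.finLocFree k)).symm
  exact DFunLike.congr_fun key x

end Groth.Agent.Krr.H448.Asm49
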