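import Groth.Agent.Krr.H448.Asm49
import Groth.Agent.Krr.H489.TorIndep
import Groth.Agent.Krr.H498.PushRes

/-!
# Base change `φ^K F_K = f_K ψ^K` for fibre squares of regular closed immersions of the same codimension
-/

set_option autoImplicit false
universe v w v₁ v₂ u
open CategoryTheory CategoryTheory.Limits AlgebraicGeometry

namespace Groth.Agent.Krr.H448.PullPush

/-- `φ^K F_K = f_K ψ^K` for a fibre square of regular closed immersions of the same codimension.  Only `M` is assumed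
to have enough locally free modules, and the K-rings may live in different universes. -/
theorem pull_push {X Y P M : Scheme.{u}} {F : P ⟶ M} {φ : Y ⟶ M} {f : X ⟶ Y} {ψ : X ⟶ P}
    (hsq : IsPullback f ψ φ F) (hF : Mor2.IsRegularClosedImmersion F) (hf : Mor2.IsRegularClosedImmersion f) (d : ℕ)
    (hcF : FlatMod.IsFinLocFreeOfRank d (Omega.conormal F)) (hcf : FlatMod.IsFinLocFreeOfRank d (Omega.conormal f))
    [IsLocallyNoetherian Y] [IsNoetherian M] (hMe : KRR.HasEnoughLocFree M)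
    {KX : Type v₁} [CommRing KX] {φX : SGA6.Kvb X →+ KX}
    {KY : Type v₂} [CommRing KY] {φY : SGA6.Kvb Y →+ KY}
    {KP : Type v} [CommRing KP] {φP : SGA6.Kvb P →+ KP} (hsP : Function.Surjective φP)
    {KM : Type w} [CommRing KM] {φM : SGA6.Kvb M →+ KM}
    (gφ : KM →+ KY) (hgφ : KRR.IsPull φ φM φY gφ) (gψ : KP →+ KX) (hgψ : KRR.IsPull ψ φP φX gψ)
    (gF : KP →+ KM) (hgF : KRR.IsPushCl F φP φM gF) (gf : KX →+ KY) (hgf : KRR.IsPushCl f φX φY gf)
    (p : KP) : gφ (gF p) = gf (gψ p) := by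
  refine Asm49.pull_push_of_res F φ f ψ hsP gφ hgφ gψ hgψ gF hgF gf hgf
    (fun E hE => PerfB.FlatPull.isFinLocFree_pullback ψ hE) (fun E hE => ?_) p
  obtain ⟨n, L, π, hL⟩ := H498.PushRes.hasLFRes_pushforward hMe F hF hE
  obtain ⟨π', hπ'⟩ := H489.TorIndep.exists_isLFRes hsq hF hf d hcF hcf hE hL
  exact ⟨n, L, π, _, π', hL, hπ', fun i => ⟨Iso.refl _⟩⟩

end Groth.Agent.Krr.H448.PullPush
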